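import Cfsg.Agent.SLThree90.RBasic
import Cfsg.Agent.S1188
import Cfsg.Agent.S0205
import Cfsg.Agent.Balance.ExtendedLayer

/-!
Structure forced by the subgroup `R = 3^(1+2)` of an overgroup of `3^(1+2).Q₈` in dimension three:
commutative normal subgroups are scalar, elements of order three modulo scalars have cycles, and a
solvable overgroup normalises `R`.
-/

set_option autoImplicit false

namespace CfsgLib.SLThree90

open Matrix
open scoped commutatorElement

variable {L : Type*} [Field L]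

local notation "GL3" => GL (Fin 3) L
local notation "Mat3" => Matrix (Fin 3) (Fin 3) L

variable {p : ℕ} {M : Subgroup (GL (Fin 3) L)} {ω : Lˣ} {w : L} {gx gy ga gb : GL (Fin 3) L}

theorem StdGens.conj_mem_span (N : Subgroup GL3) (hn : ∀ g ∈ M, ∀ x ∈ N, g * x * g⁻¹ ∈ N)
    {g : GL3} (hg : g ∈ M) {m : Mat3}
    (hm : m ∈ Submodule.span L ((fun x : GL3 => (x : Mat3)) '' (N : Set GL3))) :
    (g : Mat3) * m * ((g⁻¹ : GL3) : Mat3) ∈
      Submodule.span L ((fun x : GL3 => (x : Mat3)) '' (N : Set GL3)) := by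
  induction hm using Submodule.span_induction with
  | mem x hx =>
    obtain ⟨y, hy, rfl⟩ := hx
    exact Submodule.subset_span ⟨g * y * g⁻¹, hn g hg y hy, by simp⟩
  | zero => simp
  | add a b _ _ ha hb => rw [mul_add, add_mul]; exact add_mem ha hb
  | smul c a _ ha => rw [mul_smul_comm, smul_mul_assoc]; exact Submodule.smul_mem _ _ ha

section Matrices

variable {v : L} (hv : IsPrimitiveRoot v 3)

theorem xMat_eq_diagonal : xMat v = diagonal ![1, v, v ^ 2] := by
  ext i j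
  fin_cases i <;> fin_cases j <;> simp [xMat, diagonal]

include hv

theorem xMat_sq_eq_diagonal : xMat v ^ 2 = diagonal ![1, v ^ 2, v] := by
  rw [xMat_sq hv]
  ext i j
  fin_cases i <;> fin_cases j <;> simp [diagonal]

theorem diag_part (m : Mat3) :
    (3 : L) • diagonal ![m 0 0, m 1 1, m 2 2] =
      m + xMat v * m * xMat v ^ 2 + xMat v ^ 2 * m * xMat v := by
  have h3 := omega_cube hv
  have hrel := omega_rel hv
  rw [xMat_sq_eq_diagonal hv, xMat_eq_diagonal]
  ext i j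
  simp only [Matrix.add_apply, Matrix.smul_apply, Matrix.mul_diagonal, Matrix.diagonal_mul]
  fin_cases i <;> fin_cases j <;> simp [diagonal] <;>
    first
      | ring1
      | linear_combination -(m 0 1) * hrel
      | linear_combination -(m 0 2) * hrel
      | linear_combination -(m 1 0) * hrel
      | linear_combination -(m 2 0) * hrel
      | linear_combination (-2 * m 1 1) * h3
      | linear_combination (-2 * m 2 2) * h3
      | linear_combination -(m 1 2) * hrel - (v * m 1 2) * h3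
      | linear_combination -(m 2 1) * hrel - (v * m 2 1) * h3

theorem smul_xMat (a b c : L) :
    (a + v * c + v ^ 2 * b) • xMat v =
      diagonal ![a, b, c] + v • diagonal ![c, a, b] + v ^ 2 • diagonal ![b, c, a] := by
  have h3 := omega_cube hv
  rw [xMat_eq_diagonal, ← diagonal_smul, ← diagonal_smul, ← diagonal_smul, diagonal_add,
    diagonal_add]
  congr 1
  funext i
  fin_cases i <;> simp <;>
    first
      | ring1
      | linear_combination b * h3
      | linear_combination (c + v * b) * h3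

theorem smul_xMat_sq (a b c : L) :
    (a + v ^ 2 * c + v * b) • xMat v ^ 2 =
      diagonal ![a, b, c] + v ^ 2 • diagonal ![c, a, b] + v • diagonal ![b, c, a] := by
  have h3 := omega_cube hv
  rw [xMat_sq_eq_diagonal hv, ← diagonal_smul, ← diagonal_smul, ← diagonal_smul, diagonal_add,
    diagonal_add]
  congr 1
  funext i
  fin_cases i <;> simp <;>
    first
      | ring1
      | linear_combination (b + v * c) * h3
      | linear_combination c * h3

omit hv

theorem yMat_conj_diagonal (a b c : L) :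
    yMat * diagonal ![a, b, c] * yMat ^ 2 = diagonal ![c, a, b] ∧
      yMat ^ 2 * diagonal ![a, b, c] * yMat = diagonal ![b, c, a] := by
  rw [yMat_sq]
  constructor <;>
    (ext i j
     simp only [Matrix.mul_apply, Fin.sum_univ_three, Matrix.diagonal_apply]
     fin_cases i <;> fin_cases j <;> simp [yMat])

include hv

theorem trace_x_eq_zero {m : Mat3} (h01 : m 0 0 = m 1 1) (h12 : m 1 1 = m 2 2) :
    (m * xMat v).trace = 0 ∧ (m * xMat v ^ 2).trace = 0 := by
  have hrel := omega_rel hv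
  rw [xMat_sq_eq_diagonal hv, xMat_eq_diagonal]
  simp only [Matrix.trace_fin_three, Matrix.mul_diagonal]
  constructor <;> simp
  · linear_combination m 0 0 * hrel - (v + v ^ 2) * h01 - v ^ 2 * h12
  · linear_combination m 0 0 * hrel - (v + v ^ 2) * h01 - v * h12

theorem scalar_of_traces {m : Mat3} (h01 : m 0 0 = m 1 1) (h12 : m 1 1 = m 2 2)
    (t1 : (m * yMat).trace = 0) (t2 : (m * yMat ^ 2).trace = 0)
    (t3 : (m * (xMat v ^ 2 * yMat)).trace = 0) (t4 : (m * (xMat v * yMat ^ 2)).trace = 0)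
    (t5 : (m * (xMat v * yMat)).trace = 0) (t6 : (m * (xMat v ^ 2 * yMat ^ 2)).trace = 0) :
    m = m 0 0 • 1 := by
  have h3 := omega_cube hv
  have hrel := omega_rel hv
  have hv1 : v ≠ 1 := hv.ne_one (by norm_num)
  have three : (3 : L) ≠ 0 := fun h0 => hv1 (by
    have h1 : (v - 1) * (v - 1) = 0 := by linear_combination hrel - v * h0
    exact sub_eq_zero.1 (mul_self_eq_zero.1 h1))
  rw [xMat_sq_eq_diagonal hv] at t3 t6
  rw [xMat_eq_diagonal] at t4 t5
  rw [yMat_sq] at t2 t4 t6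
  simp only [← mul_assoc] at t3 t4 t5 t6
  simp only [Matrix.trace_fin_three, Matrix.mul_apply, Fin.sum_univ_three, diagonal] at t1 t2 t3
  simp only [Matrix.trace_fin_three, Matrix.mul_apply, Fin.sum_univ_three, diagonal] at t4 t5 t6
  simp [yMat] at t1 t2 t3
  simp [yMat] at t4 t5 t6
  have e20 : m 2 0 = 0 := (mul_eq_zero.1 (show (3 : L) * m 2 0 = 0 by
    linear_combination t1 + t5 + t3 - (m 0 1 + m 1 2) * hrel)).resolve_left three
  have e01 : m 0 1 = 0 := (mul_eq_zero.1 (show (v - v ^ 2) * m 0 1 = 0 by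
    linear_combination t5 - v ^ 2 * t1 + (v ^ 2 - 1) * e20)).resolve_left (by
      rw [show v - v ^ 2 = v * (1 - v) by ring]
      exact mul_ne_zero (hv.ne_zero (by norm_num)) (sub_ne_zero.2 (Ne.symm hv1)))
  have e12 : m 1 2 = 0 := by linear_combination t1 - e01 - e20
  have e21 : m 2 1 = 0 := (mul_eq_zero.1 (show (3 : L) * m 2 1 = 0 by
    linear_combination t2 + v ^ 2 * t4 + v * t6 - (m 1 0 + m 0 2) * hrel -
      (2 * m 2 1 + v * m 0 2) * h3)).resolve_left three
  have h21 : v ^ 2 ≠ 1 := hv.pow_ne_one_of_pos_of_lt (by norm_num) (by norm_num)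
  have e02 : m 0 2 = 0 := (mul_eq_zero.1 (show (v ^ 2 - 1) * m 0 2 = 0 by
    linear_combination t4 - t2 - (v - 1) * e21)).resolve_left (sub_ne_zero.2 h21)
  have e10 : m 1 0 = 0 := by linear_combination t2 - e02 - e21
  ext i j
  fin_cases i <;> fin_cases j <;> simp [e20, e01, e12, e21, e10, e02, ← h12, ← h01]

theorem aMat_line : aMat v * (xMat v * yMat) = v • (xMat v * yMat ^ 2 * aMat v) := by
  have h3 := omega_cube hv
  have hYX : (yMat : Mat3) ^ 2 * xMat v = v • (xMat v * yMat ^ 2) := by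
    rw [yMat_sq]
    ext i j
    fin_cases i <;> fin_cases j <;> simp [xMat, Matrix.mul_apply, Fin.sum_univ_three] <;>
      first | ring1 | linear_combination h3 | linear_combination -h3
  rw [← mul_assoc, aMat_mul_x hv, mul_assoc, aMat_mul_y hv, ← mul_assoc, hYX, smul_mul_assoc]

theorem baMat_line :
    (bMat v * aMat v) * (xMat v * yMat) = v ^ 2 • (xMat v ^ 2 * (bMat v * aMat v)) := by
  rw [mul_assoc, aMat_line hv, mul_smul_comm, ← mul_assoc, bMat_mul_line2 hv, smul_mul_assoc,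
    smul_smul, ← pow_two, mul_assoc]

theorem baMat_line2 :
    (bMat v * aMat v) * (xMat v ^ 2 * yMat ^ 2) = v ^ 2 • (xMat v * (bMat v * aMat v)) := by
  have h3 := omega_cube hv
  have hXY : xMat v ^ 2 * yMat ^ 2 = v • ((xMat v * yMat) * (xMat v * yMat) : Mat3) := by
    have hxy : (yMat : Mat3) * xMat v = v ^ 2 • (xMat v * yMat) := by
      rw [xy_comm hv, smul_smul, ← pow_succ, h3, one_smul]
    rw [mul_assoc (xMat v) yMat, ← mul_assoc yMat, hxy, smul_mul_assoc, mul_smul_comm, smul_smul,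
      ← pow_succ', h3, one_smul, mul_assoc (xMat v), ← mul_assoc, ← pow_two, ← pow_two]
  rw [hXY, mul_smul_comm, ← mul_assoc (bMat v * aMat v), baMat_line hv, smul_mul_assoc,
    mul_assoc (xMat v ^ 2), baMat_line hv, mul_smul_comm, ← mul_assoc, ← pow_add, smul_smul,
    smul_smul, pow_eq_pow_mod (2 + 2) (xMat_cube hv)]
  norm_num
  rw [show v * v ^ 2 * v ^ 2 = v ^ 3 * v ^ 2 by ring, h3, one_mul]

end Matrices

/-- Commutative normal subgroups consist of scalar matrices. -/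
theorem Extra.noAbNormal (h : Extra p M ω) : NoAbNormal M := by
  obtain ⟨gx, gy, ga, gb, s⟩ := h.exists_gens
  intro N hN hn hcomm x0 hx0
  set w : L := (ω : L) with hwdef
  set S := Submodule.span L ((fun x : GL3 => (x : Mat3)) '' (N : Set GL3)) with hS
  have hw := s.prim
  have hrel := omega_rel hw
  have hw0 : w ≠ 0 := hw.ne_zero (by norm_num)
  have hw1 : w ≠ 1 := hw.ne_one (by norm_num)
  have three : (3 : L) ≠ 0 := h.three_ne_zero
  have hcS : ∀ a ∈ S, ∀ b ∈ S, a * b = b * a := by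
    intro a ha b hb
    induction ha using Submodule.span_induction with
    | mem x hx =>
      obtain ⟨x', hx', rfl⟩ := hx
      induction hb using Submodule.span_induction with
      | mem y hy =>
        obtain ⟨y', hy', rfl⟩ := hy
        show (x' : Mat3) * (y' : Mat3) = (y' : Mat3) * (x' : Mat3)
        rw [← Units.val_mul, ← Units.val_mul, hcomm x' hx' y' hy']
      | zero => simp
      | add a b _ _ ha hb => rw [mul_add, add_mul, ha, hb]
      | smul c a _ ha => rw [mul_smul_comm, smul_mul_assoc, ha]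
    | zero => simp
    | add a b _ _ ha hb => rw [mul_add, add_mul, ha, hb]
    | smul c a _ ha => rw [mul_smul_comm, smul_mul_assoc, ha]
  have hinv : ∀ {g : GL3} {A B : Mat3}, (g : Mat3) = A → A * B = 1 →
      ((g⁻¹ : GL3) : Mat3) = B := fun {g A B} hA hAB => by
    calc ((g⁻¹ : GL3) : Mat3) = ((g⁻¹ : GL3) : Mat3) * ((g : Mat3) * B) := by
          rw [hA, hAB, mul_one]
      _ = B := by rw [← mul_assoc, ← Units.val_mul, inv_mul_cancel, Units.val_one, one_mul]
  have hxi : ((gx⁻¹ : GL3) : Mat3) = xMat w ^ 2 :=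
    hinv s.gx_val (by rw [← pow_succ', xMat_cube hw])
  have hyi : ((gy⁻¹ : GL3) : Mat3) = yMat ^ 2 :=
    hinv s.gy_val (by rw [← pow_succ', yMat_cube])
  -- the diagonal of every element of the span is constant
  have hD : ∀ m ∈ S, m 0 0 = m 1 1 ∧ m 1 1 = m 2 2 := by
    intro m hm
    set D : Mat3 := diagonal ![m 0 0, m 1 1, m 2 2] with hDdef
    have hDmem : D ∈ S := by
      have e1 := StdGens.conj_mem_span N hn s.gx_mem hm
      have e2 := StdGens.conj_mem_span N hn (M.inv_mem s.gx_mem) hm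
      rw [inv_inv, s.gx_val, hxi] at e2
      rw [s.gx_val, hxi] at e1
      have e3 := diag_part hw m
      rw [← hDdef] at e3
      rw [← inv_smul_smul₀ three D, e3]
      exact Submodule.smul_mem _ _ (add_mem (add_mem hm e1) e2)
    have e4 := StdGens.conj_mem_span N hn s.gy_mem hDmem
    have e5 := StdGens.conj_mem_span N hn (M.inv_mem s.gy_mem) hDmem
    rw [inv_inv, s.gy_val, hyi, hDdef, (yMat_conj_diagonal _ _ _).2] at e5
    rw [s.gy_val, hyi, hDdef, (yMat_conj_diagonal _ _ _).1] at e4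
    rw [hDdef] at hDmem
    -- `X` or `X²` in the span contradicts commutativity
    have hXno : ∀ k : ℕ, k = 1 ∨ k = 2 → xMat w ^ k ∉ S := by
      intro k hk hmem
      have h7 : (aMat w : Mat3) * xMat w ^ k = (yMat ^ 2) ^ k * aMat w := by
        rcases hk with rfl | rfl
        · rw [pow_one, pow_one, aMat_mul_x hw]
        · rw [pow_two, pow_two (yMat ^ 2 : Mat3), ← mul_assoc, aMat_mul_x hw, mul_assoc,
            aMat_mul_x hw, ← mul_assoc]
      have h8 := StdGens.conj_mem_span N hn s.ga_mem hmem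
      rw [s.ga_val, h7, mul_assoc, ← s.ga_val, ← Units.val_mul, mul_inv_cancel, Units.val_one,
        mul_one] at h8
      have h9 := hcS _ hmem _ h8
      rcases hk with rfl | rfl
      · rw [pow_one, pow_one, yMat_sq, xMat_eq_diagonal] at h9
        have h10 := congrFun (congrFun h9 0) 1
        rw [Matrix.diagonal_mul, Matrix.mul_diagonal] at h10
        simp at h10
        exact hw1 h10.symm
      · rw [xMat_sq_eq_diagonal hw, ← pow_mul, pow_eq_pow_mod (2 * 2) yMat_cube] at h9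
        simp only [Nat.reduceMod, Nat.reduceMul, pow_one] at h9
        have h10 := congrFun (congrFun h9 0) 2
        rw [Matrix.diagonal_mul, Matrix.mul_diagonal] at h10
        simp [yMat] at h10
        exact hw1 h10.symm
    have hmem3 : ∀ {r t : L}, diagonal ![m 0 0, m 1 1, m 2 2] +
        r • diagonal ![m 2 2, m 0 0, m 1 1] + t • diagonal ![m 1 1, m 2 2, m 0 0] ∈ S :=
      fun {r t} => add_mem (add_mem hDmem (Submodule.smul_mem _ _ e4)) (Submodule.smul_mem _ _ e5)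
    have hc0 : m 0 0 + w * m 2 2 + w ^ 2 * m 1 1 = 0 := by
      by_contra h0
      refine hXno 1 (Or.inl rfl) ?_
      rw [pow_one, ← inv_smul_smul₀ h0 (xMat w), smul_xMat hw (m 0 0) (m 1 1) (m 2 2)]
      exact Submodule.smul_mem _ _ hmem3
    have hc0' : m 0 0 + w ^ 2 * m 2 2 + w * m 1 1 = 0 := by
      by_contra h0
      refine hXno 2 (Or.inr rfl) ?_
      rw [← inv_smul_smul₀ h0 (xMat w ^ 2), smul_xMat_sq hw (m 0 0) (m 1 1) (m 2 2)]
      exact Submodule.smul_mem _ _ hmem3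
    have hd : w - w ^ 2 ≠ 0 := by
      rw [show w - w ^ 2 = w * (1 - w) by ring]
      exact mul_ne_zero hw0 (sub_ne_zero.2 (Ne.symm hw1))
    have h12 : m 2 2 = m 1 1 := sub_eq_zero.1 ((mul_eq_zero.1
      (show (w - w ^ 2) * (m 2 2 - m 1 1) = 0 by linear_combination hc0 - hc0')).resolve_left hd)
    exact ⟨by linear_combination hc0 - (m 1 1) * hrel - w * h12, h12.symm⟩
  -- all traces against the other monomials vanish
  have htr : ∀ g ∈ M, ∀ (W : Mat3) (k : ℕ) (c : L), k = 1 ∨ k = 2 → c ≠ 0 →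
      (g : Mat3) * W = c • (xMat w ^ k * (g : Mat3)) → ((x0 : Mat3) * W).trace = 0 := by
    intro g hg W k c hk hc he
    obtain ⟨d01, d12⟩ := hD _ (StdGens.conj_mem_span N hn hg
      (Submodule.subset_span ⟨x0, hx0, rfl⟩))
    have h0 : ((g : Mat3) * (x0 : Mat3) * ((g⁻¹ : GL3) : Mat3) * xMat w ^ k).trace = 0 := by
      rcases hk with rfl | rfl
      · rw [pow_one]
        exact (trace_x_eq_zero hw d01 d12).1
      · exact (trace_x_eq_zero hw d01 d12).2
    have hW : W = c • (((g⁻¹ : GL3) : Mat3) * (xMat w ^ k * (g : Mat3))) := by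
      rw [← mul_smul_comm, ← he, ← mul_assoc, ← Units.val_mul, inv_mul_cancel, Units.val_one,
        one_mul]
    rw [hW, mul_smul_comm, Matrix.trace_smul, ← mul_assoc, ← mul_assoc, Matrix.trace_mul_comm,
      ← mul_assoc, ← mul_assoc, h0, smul_zero]
  obtain ⟨d01, d12⟩ := hD _ (Submodule.subset_span ⟨x0, hx0, rfl⟩)
  have hga : (ga : Mat3) = aMat w := s.ga_val
  have hba : ((gb * ga : GL3) : Mat3) = bMat w * aMat w := by
    rw [Units.val_mul, s.gb_val, s.ga_val]
  refine ⟨_, scalar_of_traces hw d01 d12 ?_ ?_ ?_ ?_ ?_ ?_⟩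
  · exact htr ga s.ga_mem yMat 1 1 (Or.inl rfl) one_ne_zero (by
      rw [pow_one, one_smul, hga, aMat_mul_y hw])
  · exact htr ga s.ga_mem (yMat ^ 2) 2 1 (Or.inr rfl) one_ne_zero (by
      rw [one_smul, hga, pow_two, pow_two, ← mul_assoc, aMat_mul_y hw, mul_assoc, aMat_mul_y hw,
        ← mul_assoc])
  · exact htr gb s.gb_mem _ 1 w (Or.inl rfl) hw0 (by rw [pow_one, s.gb_val, bMat_mul_line hw])
  · exact htr gb s.gb_mem _ 2 w (Or.inr rfl) hw0 (by rw [s.gb_val, bMat_mul_line2 hw])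
  · exact htr (gb * ga) (M.mul_mem s.gb_mem s.ga_mem) _ 2 (w ^ 2) (Or.inr rfl)
      (pow_ne_zero _ hw0) (by rw [hba, baMat_line hw])
  · exact htr (gb * ga) (M.mul_mem s.gb_mem s.ga_mem) _ 1 (w ^ 2) (Or.inl rfl)
      (pow_ne_zero _ hw0) (by rw [hba, pow_one, baMat_line2 hw])

theorem StdGens.cube_one_of_commute (s : StdGens M w gx gy ga gb) {g : GL3}
    (hdet : (g : Mat3).det = 1) (hx : Commute (pj g) (pj gx)) (hy : Commute (pj g) (pj gy)) :
    pj g ^ 3 = 1 := by
  obtain ⟨i, j, he⟩ := s.exists_exp (s.inR_iff.2 ⟨hdet, hx, hy⟩)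
  rw [he, (s.xy.pow_pow _ _).mul_pow, ← pow_mul, ← pow_mul, mul_comm _ 3, mul_comm _ 3, pow_mul,
    pow_mul, s.x_cube, s.y_cube, one_pow, one_pow, one_mul]

/-- A matrix with simple spectrum and scalar cube commuting with `X` is moved to a multiple of
itself by `Y`. -/
theorem StdGens.cycle_of_diag (s : StdGens M w gx gy ga gb) {z : GL3} {c : L}
    (hcX : (z : Mat3) * xMat w = xMat w * (z : Mat3)) (hc : (z : Mat3) ^ 3 = c • 1)
    (hrk : ∀ a : L, 2 ≤ ((z : Mat3) - a • 1).rank) :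
    ∃ ν : L, ν ^ 3 = 1 ∧ ν ≠ 1 ∧ ((gy * z * gy⁻¹ : GL3) : Mat3) = ν • (z : Mat3) := by
  have hw := s.prim
  have hoff : ∀ a b : Fin 3, a ≠ b → z a b = 0 := by
    intro a b hab
    have h1 := congrFun (congrFun hcX a) b
    rw [xMat_eq_diagonal, Matrix.mul_diagonal, Matrix.diagonal_mul, mul_comm] at h1
    by_contra h0
    have h2 := mul_right_cancel₀ h0 h1
    have h3 := omega_cube hw
    have hw0 : w ≠ 0 := hw.ne_zero (by norm_num)
    have hw1 : w ≠ 1 := hw.ne_one (by norm_num)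
    have h21 : w ^ 2 ≠ 1 := hw.pow_ne_one_of_pos_of_lt (by norm_num) (by norm_num)
    have h12 : w ≠ w ^ 2 := fun h5 => hw1 (mul_left_cancel₀ hw0 (by rw [mul_one, ← pow_two, ← h5]))
    fin_cases a <;> fin_cases b <;> simp [hw1, hw1.symm, h21, h21.symm, h12, h12.symm] at h2 hab
  have hdiag : (z : Mat3) = diagonal fun a => z a a := by
    ext a b
    rw [Matrix.diagonal_apply]
    split_ifs with hab
    · rw [hab]
    · exact hoff a b hab
  set e : Fin 3 → L := fun a => z a a with he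
  have he3 : ∀ a, e a ^ 3 = c := by
    intro a
    have h1 : (z : Mat3) ^ 3 = c • 1 := hc
    rw [hdiag, Matrix.diagonal_pow, smul_one_eq_diagonal] at h1
    exact congrFun (diagonal_injective h1) a
  have hne : ∀ a b, a ≠ b → e a ≠ e b := by
    classical
    intro a b hab heq
    have h2 := hrk (e a)
    rw [hdiag, smul_one_eq_diagonal, diagonal_sub, Matrix.rank_diagonal] at h2
    have h3 : Fintype.card {i // e i - e a ≠ 0} ≤ 1 := by
      refine Fintype.card_le_one_iff.2 fun ⟨x, hx⟩ ⟨y, hy⟩ => Subtype.ext ?_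
      have : ∀ i, e i - e a ≠ 0 → i ≠ a ∧ i ≠ b := fun i hi =>
        ⟨fun h5 => hi (by rw [h5, sub_self]), fun h5 => hi (by rw [h5, heq, sub_self])⟩
      have hx' := this x hx
      have hy' := this y hy
      have key : ∀ a b x y : Fin 3, a ≠ b → x ≠ a ∧ x ≠ b → y ≠ a ∧ y ≠ b → x = y := by decide
      exact key a b x y hab hx' hy'
    omega
  have he0 : e 0 ≠ 0 := fun h0 => by
    have h1 := (z.isUnit.map Matrix.detMonoidHom).ne_zero
    apply h1
    rw [Matrix.coe_detMonoidHom, hdiag, det_diagonal, Fin.prod_univ_three, h0, zero_mul, zero_mul]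
  set r1 := e 1 / e 0 with hr1
  set r2 := e 2 / e 0 with hr2
  have c1 : r1 ^ 3 = 1 := by rw [hr1, div_pow, he3, ← he3 0, div_self (pow_ne_zero _ he0)]
  have c2 : r2 ^ 3 = 1 := by rw [hr2, div_pow, he3, ← he3 0, div_self (pow_ne_zero _ he0)]
  have n1 : r1 ≠ 1 := fun h0 => hne 1 0 (by decide) (div_eq_one_iff_eq he0 |>.1 h0)
  have n2 : r2 ≠ 1 := fun h0 => hne 2 0 (by decide) (div_eq_one_iff_eq he0 |>.1 h0)
  have n12 : r1 ≠ r2 := fun h0 => hne 1 2 (by decide) ((div_left_inj' he0).1 h0)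
  have e1 : e 1 = r1 * e 0 := (div_mul_cancel₀ _ he0).symm
  have e2 : e 2 = r2 * e 0 := (div_mul_cancel₀ _ he0).symm
  have q1 : r1 ^ 2 + r1 + 1 = 0 := (mul_eq_zero.1 (show (r1 - 1) * (r1 ^ 2 + r1 + 1) = 0 by
    linear_combination c1)).resolve_left (sub_ne_zero.2 n1)
  have q2 : r2 ^ 2 + r2 + 1 = 0 := (mul_eq_zero.1 (show (r2 - 1) * (r2 ^ 2 + r2 + 1) = 0 by
    linear_combination c2)).resolve_left (sub_ne_zero.2 n2)
  have hsum : r1 + r2 + 1 = 0 := (mul_eq_zero.1 (show (r1 - r2) * (r1 + r2 + 1) = 0 by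
    linear_combination q1 - q2)).resolve_left (sub_ne_zero.2 n12)
  refine ⟨r2, c2, n2, ?_⟩
  show ((gy * z * gy⁻¹ : GL3) : Mat3) = r2 • (z : Mat3)
  have h1 : (yMat : Mat3) * diagonal e = (r2 • diagonal e) * yMat := by
    have eq20 : e 2 = r2 * e 0 := e2
    ext a b
    rw [Matrix.mul_diagonal, smul_mul_assoc, Matrix.smul_apply, Matrix.diagonal_mul]
    fin_cases a <;> fin_cases b <;> simp [yMat, e1, e2] <;>
      first
        | ring1
        | linear_combination e 0 * q1 - r1 * e 0 * hsum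
        | linear_combination (r1 * e 0) * hsum - e 0 * q1
        | linear_combination e 0 * q2 - r2 * e 0 * hsum
        | linear_combination (r2 * e 0) * hsum - e 0 * q2
        | linear_combination (e 0) * hsum - (e 0) * q2
        | linear_combination (e 0) * q2 - (e 0) * hsum
  rw [Units.val_mul, Units.val_mul, s.gy_val, hdiag, h1, mul_assoc, ← s.gy_val,
    ← Units.val_mul, mul_inv_cancel, Units.val_one, mul_one]

set_option maxHeartbeats 400000 in
/-- Elements of order three modulo scalars with simple spectrum have a cycle. -/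
theorem Extra.hasCycle (h : Extra p M ω) : HasCycle (ω : L) M := by
  obtain ⟨gx, gy, ga, gb, s⟩ := h.exists_gens
  haveI := h.finite
  haveI : Fact (Nat.Prime 3) := ⟨Nat.prime_three⟩
  intro z hz ⟨c, hc⟩ hrk
  set w : L := (ω : L) with hwdef
  have hw := s.prim
  have hpg : ∀ K : Subgroup ↥M, (∀ g ∈ K, pj (g : GL3) ^ 3 = 1) → IsPGroup 3 K := by
    intro K hK g
    refine ⟨2, Subtype.ext (Subtype.ext ?_)⟩
    obtain ⟨d, hd⟩ := pj_eq_one.1 (show pj (((g.1 : ↥M) : GL3) ^ 3) = 1 by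
      rw [map_pow, hK g.1 g.2])
    have hdet := h.det_one _ (M.pow_mem g.1.2 3)
    rw [hd, Matrix.det_smul, Matrix.det_one, mul_one, Fintype.card_fin] at hdet
    show ((g.1 : ↥M) : GL3) ^ 3 ^ 2 = 1
    refine Units.ext ?_
    rw [pow_two, pow_mul, Units.val_pow_eq_pow_val, hd, smul_pow, hdet, one_pow, one_smul,
      Units.val_one]
  -- a Sylow subgroup containing `R`, and a conjugate of `z` in it
  let RR : Subgroup ↥M :=
    (Subgroup.centralizer ({pj gx, pj gy} : Set (GL3 ⧸ Subgroup.center GL3))).comap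
      (pj.comp M.subtype)
  have hRR : IsPGroup 3 RR := hpg RR fun g hg => by
    have h1 := Subgroup.mem_centralizer_iff.1 hg
    exact s.cube_one_of_commute (h.det_one _ g.2) (h1 _ (Set.mem_insert _ _)).symm
      (h1 _ (Set.mem_insert_of_mem _ rfl)).symm
  obtain ⟨S, hRS⟩ := hRR.exists_le_sylow
  have hxS : (⟨gx, s.gx_mem⟩ : ↥M) ∈ S := hRS (by
    refine Subgroup.mem_centralizer_iff.2 ?_
    rintro q (rfl | rfl)
    · rfl
    · exact s.xy.symm.eq)
  have hyS : (⟨gy, s.gy_mem⟩ : ↥M) ∈ S := hRS (by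
    refine Subgroup.mem_centralizer_iff.2 ?_
    rintro q (rfl | rfl)
    · exact s.xy.eq
    · rfl)
  have hzc : pj z ^ 3 = 1 := by
    rw [← map_pow, pj_eq_one]
    exact ⟨c, by rw [Units.val_pow_eq_pow_val, hc]⟩
  have hZ : IsPGroup 3 (Subgroup.zpowers (⟨z, hz⟩ : ↥M)) := hpg _ (by
    rintro _ ⟨i, rfl⟩
    rw [show (((⟨z, hz⟩ : ↥M) ^ i : ↥M) : GL3) = z ^ i from rfl, map_zpow, ← zpow_natCast,
      ← _root_.zpow_mul, mul_comm, _root_.zpow_mul, zpow_natCast, hzc, _root_.one_zpow])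
  obtain ⟨S₁, hzS⟩ := hZ.exists_le_sylow
  obtain ⟨g, hg⟩ := MulAction.exists_smul_eq ↥M S₁ S
  have hz'S : g * ⟨z, hz⟩ * g⁻¹ ∈ S := by
    rw [← hg]
    exact ⟨_, hzS (Subgroup.mem_zpowers _), rfl⟩
  -- a central element of the Sylow subgroup modulo scalars
  let f : ↥(S : Subgroup ↥M) →* GL3 ⧸ Subgroup.center GL3 :=
    pj.comp (M.subtype.comp (S : Subgroup ↥M).subtype)
  haveI : Finite f.range := Finite.of_surjective f.rangeRestrict f.rangeRestrict_surjective
  haveI : Nontrivial f.range :=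
    ⟨⟨⟨f ⟨_, hxS⟩, ⟨_, rfl⟩⟩, 1, fun h1 => s.x_ne_one (congrArg Subtype.val h1)⟩⟩
  haveI := (S.isPGroup'.of_surjective f.rangeRestrict f.rangeRestrict_surjective).center_nontrivial
  obtain ⟨⟨⟨q, ⟨r, hr⟩⟩, hq⟩, hq1⟩ := exists_ne (1 : Subgroup.center f.range)
  have hcen : ∀ t : ↥(S : Subgroup ↥M), Commute (f r) (f t) := fun t => by
    have := congrArg Subtype.val (Subgroup.mem_center_iff.1 hq ⟨f t, ⟨t, rfl⟩⟩)
    rw [hr]
    exact this.symm
  have hf : ∀ t : ↥(S : Subgroup ↥M), f t = pj ((t : ↥M) : GL3) := fun _ => rfl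
  have hr1 : f r ≠ 1 := fun h1 => hq1 (Subtype.ext (Subtype.ext (hr.symm.trans h1)))
  obtain ⟨i, j, hij⟩ := s.exists_exp (g := ((r : ↥M) : GL3)) (s.inR_iff.2
    ⟨h.det_one _ (r : ↥M).2, hcen ⟨_, hxS⟩, hcen ⟨_, hyS⟩⟩)
  -- the conjugate of `z`
  set z' : GL3 := (g : GL3) * z * (g : GL3)⁻¹ with hz'
  have hz'M : z' ∈ M := M.mul_mem (M.mul_mem g.2 hz) (M.inv_mem g.2)
  have hz'v : ((g * ⟨z, hz⟩ * g⁻¹ : ↥M) : GL3) = z' := by
    rw [Subgroup.coe_mul, Subgroup.coe_mul, Subgroup.coe_inv, hz']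
  have hz'c : (z' : Mat3) ^ 3 = c • 1 := by
    rw [← Units.val_pow_eq_pow_val, hz', conj_pow, Units.val_mul, Units.val_mul,
      Units.val_pow_eq_pow_val, hc, conj_smul_one]
  have hz'rk : ∀ a : L, 2 ≤ ((z' : Mat3) - a • 1).rank := fun a => by
    have h1 := rank_conj (g : GL3) ((z : Mat3) - a • 1)
    rw [mul_sub, sub_mul, conj_smul_one, ← Units.val_mul, ← Units.val_mul, ← hz'] at h1
    rw [h1]
    exact hrk a
  -- it suffices to find a cycle of `z'`
  suffices ∃ t ∈ M, ∃ ν : L, ν ^ 3 = 1 ∧ ν ≠ 1 ∧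
      ((t * z' * t⁻¹ : GL3) : Mat3) = ν • (z' : Mat3) by
    obtain ⟨t, ht, ν, hν3, hν1, he⟩ := this
    obtain ⟨k, -, hk⟩ := hw.eq_pow_of_pow_eq_one hν3
    refine ⟨(g : GL3)⁻¹ * t * g, M.mul_mem (M.mul_mem (M.inv_mem g.2) ht) g.2, k,
      hk.trans_ne hν1, ?_⟩
    rw [show (g : GL3)⁻¹ * t * g * z * ((g : GL3)⁻¹ * t * g)⁻¹ = (g : GL3)⁻¹ * (t * z' * t⁻¹) * g
      by rw [hz']; group, Units.val_mul, Units.val_mul, he, hk, mul_smul_comm, smul_mul_assoc,
      ← Units.val_mul, ← Units.val_mul,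
      show (g : GL3)⁻¹ * z' * g = z by rw [hz']; group]
  obtain ⟨d, hd⟩ := pj_commute_iff.1
    (show Commute (pj ((r : ↥M) : GL3)) (pj z') from by
      have h1 := hcen ⟨_, hz'S⟩
      rw [hf, hf, hz'v] at h1
      exact h1)
  set r' : GL3 := ((r : ↥M) : GL3) with hr'
  by_cases hd1 : d = 1
  · -- `z'` commutes with `r`
    rw [hd1, one_smul] at hd
    obtain ⟨g₁, hg₁, hgx1⟩ := s.exists_conj_x i j (by rw [← hij]; rw [hf] at hr1; exact hr1)
    rw [← hij] at hgx1
    set z'' : GL3 := g₁ * z' * g₁⁻¹ with hz''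
    have hcx : ∃ k : ℕ, (k = 1 ∨ k = 2) ∧ (z'' : Mat3) * xMat w ^ k = xMat w ^ k * (z'' : Mat3) := by
      have he : ∀ k : ℕ, MulAut.conj (pj g₁) (pj r') = pj gx ^ k →
          (z'' : Mat3) * xMat w ^ k = xMat w ^ k * (z'' : Mat3) := by
        intro k hk
        rw [MulAut.conj_apply, ← map_inv, ← map_mul, ← map_mul, ← map_pow, pj_eq_iff] at hk
        obtain ⟨e, he⟩ := hk
        rw [Units.val_pow_eq_pow_val, s.gx_val] at he
        have he0 : e ≠ 0 := fun h0 => by
          rw [h0, zero_smul] at he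
          exact Units.ne_zero _ he
        have hcomm : g₁ * r' * g₁⁻¹ * z'' = z'' * (g₁ * r' * g₁⁻¹) := by
          have h1 : r' * z' = z' * r' := Units.ext (by rw [Units.val_mul r' z', Units.val_mul z' r', hd])
          rw [hz'', show g₁ * r' * g₁⁻¹ * (g₁ * z' * g₁⁻¹) = g₁ * (r' * z') * g₁⁻¹ by group, h1]
          group
        have h2 := congrArg Units.val hcomm
        rw [Units.val_mul, Units.val_mul z'', he, smul_mul_assoc, mul_smul_comm] at h2
        exact (smul_right_injective _ he0 h2).symm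
      rcases hgx1 with h1 | h1
      · exact ⟨1, Or.inl rfl, he 1 (by rw [pow_one]; exact h1)⟩
      · exact ⟨2, Or.inr rfl, he 2 h1⟩
    obtain ⟨k, hk, hk'⟩ := hcx
    have hcX : (z'' : Mat3) * xMat w = xMat w * (z'' : Mat3) := by
      rcases hk with rfl | rfl
      · rwa [pow_one] at hk'
      · rw [← pow_one (xMat w), show (1 : ℕ) = (2 * 2) % 3 from rfl,
          ← pow_eq_pow_mod (2 * 2) (xMat_cube hw), pow_mul]
        exact ((show Commute (z'' : Mat3) (xMat w ^ 2) from hk').pow_right 2).eq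
    have hz''c : (z'' : Mat3) ^ 3 = c • 1 := by
      rw [← Units.val_pow_eq_pow_val, hz'', conj_pow, Units.val_mul, Units.val_mul,
        Units.val_pow_eq_pow_val, hz'c, conj_smul_one]
    have hz''rk : ∀ a : L, 2 ≤ ((z'' : Mat3) - a • 1).rank := fun a => by
      have h1 := rank_conj g₁ ((z' : Mat3) - a • 1)
      rw [mul_sub, sub_mul, conj_smul_one, ← Units.val_mul, ← Units.val_mul, ← hz''] at h1
      rw [h1]
      exact hz'rk a
    obtain ⟨r2, c2, n2, hy⟩ := s.cycle_of_diag hcX hz''c hz''rk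
    refine ⟨g₁⁻¹ * gy * g₁, M.mul_mem (M.mul_mem (M.inv_mem hg₁) s.gy_mem) hg₁, r2, c2, n2, ?_⟩
    rw [show g₁⁻¹ * gy * g₁ * z' * (g₁⁻¹ * gy * g₁)⁻¹ = g₁⁻¹ * (gy * z'' * gy⁻¹) * g₁ by
      rw [hz'']; group, Units.val_mul, Units.val_mul, hy, mul_smul_comm, smul_mul_assoc,
      ← Units.val_mul, ← Units.val_mul, show g₁⁻¹ * z'' * g₁ = z' by rw [hz'']; group]
  · -- `r` itself is a cycle
    refine ⟨r', (r : ↥M).2, d, ?_, hd1, ?_⟩
    · have h1 := congrArg Matrix.det hd
      rw [Matrix.det_smul, Matrix.det_mul, Matrix.det_mul, h.det_one _ hz'M,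
        h.det_one _ (r : ↥M).2, Fintype.card_fin, one_mul, mul_one] at h1
      exact h1.symm
    · rw [Units.val_mul, Units.val_mul, hd, smul_mul_assoc, mul_assoc, ← Units.val_mul,
        mul_inv_cancel, Units.val_one, mul_one]

theorem Extra.ambient (h : Extra p M ω) : Ambient p ω M :=
  ⟨h.toLocal, h.omega, h.scalar_mem, h.hasCycle, h.noAbNormal⟩

/-- In an abelian normal subgroup of exponent three, an element of order three acting has a
non-trivial fixed point. -/
theorem exists_fixed {Q : Type*} [Group Q] (P : Subgroup Q)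
    (hc : ∀ a ∈ P, ∀ b ∈ P, a * b = b * a) (h3 : ∀ a ∈ P, a ^ 3 = 1) (x : Q) (hx : x ^ 3 = 1)
    (hinv : ∀ a ∈ P, x * a * x⁻¹ ∈ P) (hne : ∃ a ∈ P, a ≠ 1) :
    ∃ a ∈ P, a ≠ 1 ∧ Commute a x := by
  obtain ⟨a, ha, ha1⟩ := hne
  set b := x * a * x⁻¹ with hb
  set c := x * b * x⁻¹ with hc'
  have hbP : b ∈ P := hinv a ha
  have hcP : c ∈ P := hinv b hbP
  have hca : x * c * x⁻¹ = a := by
    rw [hc', hb,
      show x * (x * (x * a * x⁻¹) * x⁻¹) * x⁻¹ = x * x * x * a * (x * x * x)⁻¹ by group,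
      show x * x * x = 1 by rw [← hx]; simp [pow_succ]]
    group
  have fix : ∀ d : Q, x * d * x⁻¹ = d → Commute d x := fun d hd => by
    rw [mul_inv_eq_iff_eq_mul] at hd
    exact hd.symm
  by_cases h1 : b = a
  · exact ⟨a, ha, ha1, fix a h1⟩
  by_cases h2 : x * (b * a⁻¹) * x⁻¹ = b * a⁻¹
  · exact ⟨b * a⁻¹, P.mul_mem hbP (P.inv_mem ha), fun h0 => h1 (mul_inv_eq_one.1 h0), fix _ h2⟩
  set e := c * b⁻¹ * (b * a⁻¹)⁻¹ with he
  have hconj : x * (b * a⁻¹) * x⁻¹ = c * b⁻¹ := by rw [hc', hb]; group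
  refine ⟨e, P.mul_mem (P.mul_mem hcP (P.inv_mem hbP)) (P.inv_mem (P.mul_mem hbP (P.inv_mem ha))),
    fun h0 => h2 (by rw [hconj]; exact mul_inv_eq_one.1 h0), fix e ?_⟩
  have he' : x * e * x⁻¹ = a * c⁻¹ * (c * b⁻¹)⁻¹ := by
    conv_rhs => rw [← hca, hc', hb]
    rw [he, hc', hb]
    group
  rw [he', he]
  haveI : IsMulCommutative P := ⟨⟨fun u v => Subtype.ext (hc u u.2 v v.2)⟩⟩
  have key : ∀ u v t : ↥P,
      u * t⁻¹ * (t * v⁻¹)⁻¹ = t * v⁻¹ * (v * u⁻¹)⁻¹ * (v ^ 3 * (t ^ 3)⁻¹) := by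
    intro u v t
    letI : CommGroup ↥P := { (inferInstance : Group ↥P) with mul_comm := fun u v => Subtype.ext (hc u u.2 v v.2) }
    apply Additive.ofMul.injective
    simp only [ofMul_mul, ofMul_inv, ofMul_pow]
    abel
  have h := congrArg Subtype.val (key ⟨a, ha⟩ ⟨b, hbP⟩ ⟨c, hcP⟩)
  simpa [h3 b hbP, h3 c hcP] using h

theorem cube_mul_of_comm {A B : Mat3} {c : L} (hc : A * B = c • (B * A)) :
    A ^ 3 * B = c ^ 3 • (B * A ^ 3) := by
  calc A ^ 3 * B = A * (A * (A * B)) := by simp only [pow_succ, pow_zero, one_mul, mul_assoc]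
    _ = c • (A * (A * B * A)) := by
        conv_lhs => rw [hc]
        simp only [mul_smul_comm, smul_mul_assoc, mul_assoc, smul_smul]
    _ = (c * c) • (A * B * (A * A)) := by
        conv_lhs => rw [hc]
        rw [smul_mul_assoc, mul_smul_comm, smul_smul]
        simp only [mul_assoc]
    _ = (c * c * c) • (B * A * (A * A)) := by rw [hc, smul_mul_assoc, smul_smul]
    _ = c ^ 3 • (B * A ^ 3) := by
        simp only [pow_succ, pow_zero, one_mul, mul_assoc]

theorem map_subtype_conj_mem {G : Type*} [Group G] {H : Subgroup G} (D : Subgroup H)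
    (hD : D.Normal) : ∀ g ∈ H, ∀ x ∈ D.map H.subtype, g * x * g⁻¹ ∈ D.map H.subtype := by
  rintro g hg _ ⟨x, hx, rfl⟩
  exact ⟨⟨g, hg⟩ * x * ⟨g, hg⟩⁻¹, hD.conj_mem x hx ⟨g, hg⟩, rfl⟩

/-- A solvable overgroup normalises `R`. -/
theorem Extra.normalisesR_of_solvable (h : Extra p M ω) (hs : Group.IsSolvable M) :
    NormalisesR (ω : L) M := by
  obtain ⟨gx, gy, ga, gb, s⟩ := h.exists_gens
  haveI := h.finite
  let D : ℕ → Subgroup GL3 := fun k => (derivedSeries ↥M k).map M.subtype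
  have hD0 : ¬ D 0 ≤ pj.ker := fun hle => s.x_ne_one (MonoidHom.mem_ker.1 (hle (by
    simp only [D, derivedSeries_zero]
    exact ⟨⟨gx, s.gx_mem⟩, trivial, rfl⟩)))
  classical
  have hex : ∃ k, D k ≤ pj.ker := by
    obtain ⟨k, hk⟩ := hs.solvable
    exact ⟨k, by simp [D, hk]⟩
  obtain ⟨k, hk⟩ : ∃ k, Nat.find hex = k + 1 := by
    rcases hh : Nat.find hex with _ | k
    · exact absurd (hh ▸ Nat.find_spec hex) hD0
    · exact ⟨k, rfl⟩
  set N := D k with hN
  have hNnot : ¬ N ≤ pj.ker := Nat.find_min hex (by omega)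
  have hNM : N ≤ M := Subgroup.map_subtype_le _
  have hNn : ∀ g ∈ M, ∀ x ∈ N, g * x * g⁻¹ ∈ N :=
    map_subtype_conj_mem (derivedSeries ↥M k) (derivedSeries_normal (G := ↥M) k)
  have hcm : ∀ a ∈ N, ∀ b ∈ N, Commute (pj a) (pj b) := by
    rintro _ ⟨a, ha, rfl⟩ _ ⟨b, hb, rfl⟩
    have h1 : M.subtype ⁅a, b⁆ ∈ pj.ker := (hk ▸ Nat.find_spec hex) ⟨⁅a, b⁆, by
      rw [derivedSeries_succ]
      exact Subgroup.commutator_mem_commutator ha hb, rfl⟩
    rw [MonoidHom.mem_ker, map_commutatorElement, map_commutatorElement] at h1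
    exact commutatorElement_eq_one_iff_commute.1 h1
  -- exponent three modulo scalars
  have hcube : ∀ a ∈ N, ∀ b ∈ N, a ^ 3 * b = b * a ^ 3 := by
    intro a ha b hb
    obtain ⟨c, hc⟩ := pj_commute_iff.1 (hcm a ha b hb)
    have hc3 : c ^ 3 = 1 := by
      have h1 := congrArg Matrix.det hc
      rw [Matrix.det_smul, Matrix.det_mul, Matrix.det_mul, h.det_one _ (hNM ha),
        h.det_one _ (hNM hb), Fintype.card_fin, one_mul, mul_one] at h1
      exact h1.symm
    refine Units.ext ?_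
    rw [Units.val_mul, Units.val_mul, Units.val_pow_eq_pow_val, cube_mul_of_comm hc, hc3, one_smul]
  have hexp : ∀ a ∈ N, pj a ^ 3 = 1 := by
    intro a ha
    obtain ⟨c, hc⟩ := h.noAbNormal (N ⊓ Subgroup.centralizer (N : Set GL3))
      (inf_le_left.trans hNM) (fun g hg x hx => ⟨hNn g hg x hx.1, Subgroup.mem_centralizer_iff.2
        fun y hy => by
          have h1 := Subgroup.mem_centralizer_iff.1 hx.2 _ (hNn g⁻¹ (M.inv_mem hg) y hy)
          rw [inv_inv] at h1
          calc y * (g * x * g⁻¹) = g * (g⁻¹ * y * g * x) * g⁻¹ := by group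
            _ = g * (x * (g⁻¹ * y * g)) * g⁻¹ := by rw [h1]
            _ = g * x * g⁻¹ * y := by group⟩)
      (fun x hx y hy => (Subgroup.mem_centralizer_iff.1 hy.2 x hx.1))
      (a ^ 3) ⟨N.pow_mem ha 3, Subgroup.mem_centralizer_iff.2 fun y hy => (hcube a ha y hy).symm⟩
    rw [← map_pow, pj_eq_one]
    exact ⟨c, hc⟩
  -- the image contains a non-trivial element of the image of `R`
  set P := N.map pj with hP
  have hPc : ∀ a ∈ P, ∀ b ∈ P, a * b = b * a := by
    rintro _ ⟨a, ha, rfl⟩ _ ⟨b, hb, rfl⟩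
    exact hcm a ha b hb
  have hP3 : ∀ a ∈ P, a ^ 3 = 1 := by
    rintro _ ⟨a, ha, rfl⟩
    exact hexp a ha
  have hPn : ∀ g ∈ M, ∀ a ∈ P, pj g * a * (pj g)⁻¹ ∈ P := by
    rintro g hg _ ⟨a, ha, rfl⟩
    exact ⟨g * a * g⁻¹, hNn g hg a ha, by simp⟩
  have hPne : ∃ a ∈ P, a ≠ 1 := by
    by_contra! hc
    exact hNnot fun a ha => MonoidHom.mem_ker.2 (hc _ ⟨a, ha, rfl⟩)
  obtain ⟨a₁, ha₁, ha1, hax⟩ := exists_fixed P hPc hP3 _ s.x_cube (hPn gx s.gx_mem) hPne
  obtain ⟨a₂, ha₂, ha2, hay⟩ := exists_fixed (P ⊓ Subgroup.centralizer {pj gx})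
    (fun a ha b hb => hPc a ha.1 b hb.1) (fun a ha => hP3 a ha.1) _ s.y_cube
    (fun a ha => ⟨hPn gy s.gy_mem a ha.1, Subgroup.mem_centralizer_singleton_iff.2
      (show Commute (pj gy * a * (pj gy)⁻¹) (pj gx) from
        (s.xy.symm.mul_left (Subgroup.mem_centralizer_singleton_iff.1 ha.2)).mul_left
          s.xy.symm.inv_left).eq⟩)
    ⟨a₁, ⟨ha₁, Subgroup.mem_centralizer_singleton_iff.2 hax.eq⟩, ha1⟩
  obtain ⟨n, hn, hna⟩ := ha₂.1
  have hnx : Commute (pj n) (pj gx) := by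
    rw [hna]
    exact Subgroup.mem_centralizer_singleton_iff.1 ha₂.2
  obtain ⟨i, j, hij⟩ := s.exists_exp
    (s.inR_iff.2 ⟨h.det_one _ (hNM hn), hnx, hna ▸ hay⟩)
  rw [hna] at hij
  have hb := hPn ga s.ga_mem a₂ ha₂.1
  have hb' : pj ga * a₂ * (pj ga)⁻¹ = pj gy ^ (2 * (i : ℕ)) * pj gx ^ (j : ℕ) := by
    rw [hij, ← conj_mul, ← conj_pow, ← conj_pow, s.a_x, s.a_y, ← pow_mul]
  have hxy := s.xy
  have hxP : pj gx ∈ P := by
    have h1 : a₂ ^ (i : ℕ) * (pj ga * a₂ * (pj ga)⁻¹) ^ (j : ℕ) =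
        pj gx ^ ((i : ℕ) * i + j * j) := by
      rw [hb', hij, (hxy.pow_pow _ _).mul_pow, (hxy.symm.pow_pow _ _).mul_pow, ← pow_mul,
        ← pow_mul, ← pow_mul, ← pow_mul, mul_assoc, ← mul_assoc (pj gy ^ ((j : ℕ) * i)),
        ← pow_add, (hxy.symm.pow_pow _ _).eq, ← mul_assoc, ← pow_add,
        pow_eq_pow_mod (_ + 2 * _ * _) s.y_cube,
        show ((j : ℕ) * i + 2 * i * j) % 3 = 0 by
          rw [show (j : ℕ) * i + 2 * i * j = 3 * (i * j) by ring, Nat.mul_mod_right],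
        pow_zero, mul_one]
    have h2 : pj gx ^ ((i : ℕ) * i + j * j) ∈ P :=
      h1 ▸ P.mul_mem (P.pow_mem ha₂.1 _) (P.pow_mem hb _)
    rw [pow_eq_pow_mod _ s.x_cube] at h2
    have key : ∀ i j : Fin 3, ¬ (i = 0 ∧ j = 0) →
        ((i : ℕ) * i + j * j) % 3 = 1 ∨ ((i : ℕ) * i + j * j) % 3 = 2 := by decide
    rcases key i j (fun h0 => ha2 (by rw [hij, h0.1, h0.2]; simp)) with h3 | h3 <;> rw [h3] at h2
    · rwa [pow_one] at h2
    · have h4 := P.pow_mem h2 2
      rwa [← pow_mul, pow_eq_pow_mod (2 * 2) s.x_cube, show 2 * 2 % 3 = 1 from rfl, pow_one] at h4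
  have hyP : pj gy ∈ P := by
    have h4 := P.pow_mem (hPn ga s.ga_mem _ hxP) 2
    rwa [s.a_x, ← pow_mul, pow_eq_pow_mod (2 * 2) s.y_cube, show 2 * 2 % 3 = 1 from rfl,
      pow_one] at h4
  -- conclusion
  intro g hg r hr
  obtain ⟨hrdet, hrx, hry⟩ := s.inR_iff.1 hr
  have hrP : ∀ q ∈ P, Commute (pj r) q := by
    rintro _ ⟨q, hq, rfl⟩
    obtain ⟨i, j, he⟩ := s.exists_exp (s.inR_iff.2 ⟨h.det_one _ (hNM hq),
      hPc _ ⟨q, hq, rfl⟩ _ hxP, hPc _ ⟨q, hq, rfl⟩ _ hyP⟩)
    rw [he]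
    exact (hrx.pow_right _).mul_right (hry.pow_right _)
  have hconj : ∀ q ∈ P, Commute (pj (g * r * g⁻¹)) q := by
    intro q hq
    have h1 := hrP _ (hPn g⁻¹ (M.inv_mem hg) q hq)
    rw [map_inv, inv_inv] at h1
    rw [map_mul, map_mul, map_inv]
    calc pj g * pj r * (pj g)⁻¹ * q = pj g * (pj r * ((pj g)⁻¹ * q * pj g)) * (pj g)⁻¹ := by group
      _ = pj g * (((pj g)⁻¹ * q * pj g) * pj r) * (pj g)⁻¹ := by rw [h1.eq]
      _ = q * (pj g * pj r * (pj g)⁻¹) := by group
  refine s.inR_iff.2 ⟨?_, hconj _ hxP, hconj _ hyP⟩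
  rw [Units.val_mul, Units.val_mul, Matrix.det_units_conj, hrdet]

/-- An overgroup with an isolated involution with solvable centraliser normalises `R`. -/
theorem Extra.normalisesR_of_isolated (h : Extra p M ω) (hi : HasIsolated M) :
    NormalisesR (ω : L) M := by
  obtain ⟨t, ht, hto, hiso, hsol⟩ := hi
  haveI := h.finite
  set t' : ↥M := ⟨t, ht⟩ with ht'
  have hto' : orderOf t' = 2 := by rw [← Subgroup.orderOf_coe]; exact hto
  have hiso' : Cfsg.IsIsolatedInvolution t' := ⟨hto', fun g hc => Subtype.ext (by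
    rw [Subgroup.coe_mul, Subgroup.coe_mul, Subgroup.coe_inv]
    exact hiso g g.2 (by simpa using hc.map M.subtype))⟩
  let f : ↥(Subgroup.centralizer ({t'} : Set ↥M)) →*
      ↥(M ⊓ Subgroup.centralizer ({t} : Set GL3)) :=
    (M.subtype.comp (Subgroup.centralizer ({t'} : Set ↥M)).subtype).codRestrict _ fun x =>
      ⟨(x : ↥M).2, Subgroup.mem_centralizer_singleton_iff.2
        (congrArg Subtype.val (Subgroup.mem_centralizer_singleton_iff.1 x.2))⟩
  haveI := hsol
  have hsol' : Group.IsSolvable ↥(Subgroup.centralizer ({t'} : Set ↥M)) :=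
    solvable_of_solvable_injective (f := f) fun a b he => Subtype.ext (Subtype.ext
      (congrArg (fun y : ↥(M ⊓ Subgroup.centralizer ({t} : Set GL3)) => (y : GL3)) he))
  have hz := Cfsg.Agent.S1188.result t' hiso' hsol'
  set O := Cfsg.oddCore ↥M with hO
  haveI : O.Normal := Balance.oddCore_normal_inst 2
  haveI : Fact (Nat.Prime 2) := ⟨Nat.prime_two⟩
  haveI hOs : Group.IsSolvable ↥O := Cfsg.Agent.S0205.result
    (Nat.not_even_iff_odd.1 fun he => Balance.pPrimeCore_not_dvd 2 ↥M he.two_dvd)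
  haveI := hsol'
  let π : ↥M →* ↥M ⧸ O := QuotientGroup.mk' O
  have hsurj : Function.Surjective (π.comp (Subgroup.centralizer ({t'} : Set ↥M)).subtype) := by
    intro q
    obtain ⟨g, rfl⟩ := QuotientGroup.mk'_surjective O q
    set o := t' * g * t'⁻¹ * g⁻¹ with ho
    have hoO : o ∈ O := hz g
    have htt : t' * t' = 1 := by rw [← pow_two, ← hto', pow_orderOf_eq_one]
    have hti : t'⁻¹ = t' := inv_eq_of_mul_eq_one_right htt
    have hgt : g * t' * g⁻¹ = t' * o := by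
      rw [ho, hti, show t' * (t' * g * t' * g⁻¹) = t' * t' * (g * t' * g⁻¹) by group, htt, one_mul]
    have hinvo : t' * o * t' = o⁻¹ := by
      have h1 : (g * t' * g⁻¹) * (g * t' * g⁻¹) = 1 := by
        rw [show g * t' * g⁻¹ * (g * t' * g⁻¹) = g * (t' * t') * g⁻¹ by group, htt, mul_one,
          mul_inv_cancel]
      rw [hgt] at h1
      exact eq_inv_of_mul_eq_one_left (by rw [← h1]; group)
    obtain ⟨k, hk⟩ : Odd (orderOf o) := by
      rw [← Nat.not_even_iff_odd]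
      intro he
      exact Balance.pPrimeCore_not_dvd 2 ↥M (he.two_dvd.trans
        ((Subgroup.orderOf_mk o hoO).symm ▸ orderOf_dvd_natCard (⟨o, hoO⟩ : ↥O)))
    set r := o ^ k with hr
    have hrt : r * t' * r⁻¹ = t' * o := by
      have h1 : t' * r = r⁻¹ * t' := by
        have h2 : t' * r * t'⁻¹ = r⁻¹ := by
          rw [hr, ← conj_pow, hti, hinvo, inv_pow]
        rwa [mul_inv_eq_iff_eq_mul] at h2
      have h3 : r * t' = t' * r⁻¹ := by
        calc r * t' = r * (t' * r) * r⁻¹ := by group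
          _ = r * (r⁻¹ * t') * r⁻¹ := by rw [h1]
          _ = t' * r⁻¹ := by group
      rw [h3, mul_assoc]
      congr 1
      rw [← _root_.mul_inv_rev, _root_.inv_eq_iff_mul_eq_one, hr, ← pow_add, ← pow_succ,
        show k + k + 1 = orderOf o by omega, pow_orderOf_eq_one]
    refine ⟨⟨r⁻¹ * g, Subgroup.mem_centralizer_singleton_iff.2 ?_⟩, ?_⟩
    · have h1 : r⁻¹ * g * t' * (r⁻¹ * g)⁻¹ = t' := by
        rw [show r⁻¹ * g * t' * (r⁻¹ * g)⁻¹ = r⁻¹ * (g * t' * g⁻¹) * r by group, hgt, ← hrt]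
        group
      rwa [mul_inv_eq_iff_eq_mul] at h1
    · show π (r⁻¹ * g) = π g
      rw [map_mul, map_inv, show π r = 1 from (QuotientGroup.eq_one_iff _).2 (O.pow_mem hoO k),
        inv_one, one_mul]
  haveI : Group.IsSolvable (↥M ⧸ O) := solvable_of_surjective hsurj
  exact h.normalisesR_of_solvable
    (solvable_of_ker_le_range O.subtype π (by simp [π]))

end CfsgLib.SLThree90
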