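import Cfsg.Agent.SLThree90.NoHom
import Cfsg.Agent.SLThree90.Dihedral
import Cfsg.Agent.SLThree90.Pair
import Cfsg.Agent.SLThree90.RStruct
import Cfsg.Agent.SLThree90.Hyp

/-!
Finite overgroups of `3^(1+2).Q₈` in three dimensions without transvections normalise `3^(1+2)`.
-/

set_option autoImplicit false

namespace CfsgLib.SLThree90

open Matrix

/-- Such a group has an isolated involution, so it normalises `3^(1+2)`. -/
theorem Extra.normalisesR {L : Type*} [Field L] [IsAlgClosed L] {p : ℕ}
    {M : Subgroup (GL (Fin 3) L)} {ω : Lˣ} (h : Extra p M ω) : NormalisesR (ω : L) M := by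
  have ha := h.ambient
  rcases ha.noHom_or_isolated with hno | hi
  · obtain ⟨P, a, b, hab, ha2, hb2⟩ := h.exists_pair
    rcases ha.dihData_or_isolated hno hab ha2 hb2 with hi | ⟨n, hd⟩
    · exact h.normalisesR_of_isolated hi
    · exact (hd.false h).elim
  · exact h.normalisesR_of_isolated hi

end CfsgLib.SLThree90
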