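import Cfsg.Agent.SLThree90.SingerPolar
import Cfsg.Agent.FieldExtMax.MatrixForm
import Cfsg.Agent.S0205

/-!
The normaliser of a cubic field is maximal in the special linear group in three dimensions over
every field with other than four elements.
-/

set_option autoImplicit false
set_option linter.unusedSectionVars false

namespace CfsgLib.SLThree90

open Matrix Module CfsgLib.TransvGL CfsgLib.FullCentres

/-- The overgroups of the normaliser of a cubic field of matrices. -/
theorem Singer.overgroup {F L : Type*} [Field F] [Fintype F] [Field L] [Algebra F L] [Finite L]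
    (θ : L →ₐ[F] Matrix (Fin 3) (Fin 3) F) (h3 : finrank F L = 3) (h4 : Fintype.card F ≠ 4)
    {M : Subgroup (GL (Fin 3) F)} (hN : Singer.norms θ ≤ M)
    (hM : M ≤ Cfsg.Geo.specialLinear (Fin 3) F) :
    M = Singer.norms θ ∨ M = Cfsg.Geo.specialLinear (Fin 3) F := by
  classical
  rcases Singer.index_cases θ h3 h4 hN hM with h | h | h | h
  · exact Or.inl h
  · exact Or.inr h
  · exact Or.inr (le_antisymm hM (Singer.sl_le_of_cube_dvd θ h3 hN hM h))
  left
  set q := Fintype.card F
  obtain ⟨r, hr⟩ : ∃ r, q = r + 1 := ⟨q - 1, by have : 1 < q := Fintype.one_lt_card; omega⟩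
  have hcm := Singer.natCard_of_cube_mul h hr
  rcases Nat.even_or_odd q with heven | hodd
  · refine le_antisymm (Singer.le_norms_of_solvable θ h3 h4 heven hN hM h ?_) hN
    refine Cfsg.Agent.S0205.result ?_
    obtain ⟨u, hu⟩ := heven
    have hro : Odd r := ⟨u - 1, by omega⟩
    rw [hcm, Nat.odd_mul, Nat.odd_mul, Nat.odd_pow_iff two_ne_zero]
    refine ⟨⟨hro, ?_⟩, ?_⟩
    · rw [Nat.odd_add]; simp [hro]
    · obtain ⟨r', hr'⟩ := hro
      exact ⟨2 * r' ^ 2 + 5 * r' + 3, by rw [show Fintype.card F = r + 1 from hr, hr']; ring⟩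
  exfalso
  obtain ⟨p, n, hp, hn, hpn⟩ := (isPrimePow_nat_iff _).1 (FiniteField.isPrimePow_card F)
  haveI : Fact p.Prime := ⟨hp⟩
  haveI : CharP F p := by
    obtain ⟨n', hn', hcard⟩ := FiniteField.card F (ringChar F)
    have hr : ringChar F = p := by
      have : ringChar F ∣ p ^ n := hpn ▸ hcard ▸ dvd_pow_self _ n'.pos.ne'
      exact (Nat.prime_dvd_prime_iff_eq hn' hp).1 (hn'.dvd_of_dvd_pow this)
    exact hr ▸ ringChar.charP F
  have hpq : p ∣ q := (show p ^ n = q from hpn) ▸ dvd_pow_self p hn.ne'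
  have hndvd : ¬ p ∣ Nat.card M := by
    rw [hcm]
    intro hh
    have h1 : ∀ x, p ∣ x → p ∣ x + 1 → False := fun x ha hb =>
      hp.one_lt.ne' (Nat.dvd_one.1 ((Nat.dvd_add_right ha).1 hb))
    rcases (Nat.Prime.dvd_mul hp).1 hh with hh | hh
    · rcases (Nat.Prime.dvd_mul hp).1 hh with hh | hh
      · exact h1 r (hp.dvd_of_dvd_pow hh) (hr ▸ hpq)
      · exact h1 q hpq (hr ▸ hh)
    · exact h1 (q ^ 2 + q) (dvd_add (dvd_pow hpq two_ne_zero) hpq) hh
  have hno : ∀ a φ, Has M a φ → a = 0 ∨ φ = 0 := by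
    intro a φ hA
    by_contra! hne
    obtain ⟨h1, h2⟩ := hA
    have hpow : ∀ k : ℕ, transv h1 ^ k =
        transv (φ := (k : F) • φ) (v := a) (by simp [h1]) := by
      intro k
      induction k with
      | zero => exact ext_mulVec fun x => by simp [transv_mulVec]
      | succ k ih =>
        rw [pow_succ, ih, transv_mul_left]
        exact transv_congr _ _ fun x => by simp [add_smul]
    have hord : orderOf (⟨transv h1, h2⟩ : M) = p := by
      refine orderOf_eq_prime (Subtype.ext ?_) fun he => ?_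
      · rw [SubmonoidClass.coe_pow, hpow]
        exact ext_mulVec fun x => by simp [transv_mulVec, CharP.cast_eq_zero]
      · obtain ⟨y, hy⟩ : ∃ y, φ y ≠ 0 := by
          by_contra! hφ
          exact hne.2 (LinearMap.ext hφ)
        have := congrArg (fun g : M => ((g : GL (Fin 3) F) : Matrix (Fin 3) (Fin 3) F) *ᵥ y) he
        simp [transv_mulVec, hy, hne.1] at this
    exact hndvd (hord ▸ orderOf_dvd_natCard _)
  have h2 : (2 : F) ≠ 0 := by
    intro h0
    have := (CharP.cast_eq_zero_iff F p 2).1 (by exact_mod_cast h0)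
    rw [(Nat.prime_dvd_prime_iff_eq hp Nat.prime_two).1 this] at hpq
    exact (Nat.not_even_iff_odd.2 hodd) (even_iff_two_dvd.2 hpq)
  have h2M : 2 ∣ Nat.card M := by
    rw [hcm]
    obtain ⟨u, hu⟩ := hodd
    exact Dvd.dvd.mul_right (Dvd.dvd.mul_right (dvd_pow (⟨u, by omega⟩ : 2 ∣ r) two_ne_zero) _) _
  obtain ⟨t, ht⟩ := exists_prime_orderOf_dvd_card' 2 h2M
  refine Singer.false_of_involution θ h3 h2 hN hM hno t.2 (fun h1 => ?_) ?_
  · rw [show t = 1 from Subtype.ext h1, orderOf_one] at ht
    norm_num at ht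
  · have := pow_orderOf_eq_one t
    rw [ht, pow_two] at this
    exact congrArg Subtype.val this

/-- The normaliser of a cubic field is maximal in the special linear group. -/
theorem field_maximal {F : Type*} [Field F] [Fintype F] (h4 : Fintype.card F ≠ 4)
    (K : Subalgebra F (Matrix (Fin 3) (Fin 3) F)) (hK : Cfsg.Geo.IsFieldSubalgebra 3 K) :
    Cfsg.Geo.IsMaximalIn (Cfsg.Geo.specialLinear (Fin 3) F)
      (Cfsg.Geo.subalgebraNormalizer K ⊓ Cfsg.Geo.specialLinear (Fin 3) F) := by
  classical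
  letI : Field K := FieldExtMax.fieldOf hK
  have hrange : (K.val).range = K := Subalgebra.range_val K
  have hnorms : Singer.norms K.val =
      Cfsg.Geo.subalgebraNormalizer K ⊓ Cfsg.Geo.specialLinear (Fin 3) F := by
    rw [Singer.norms, hrange]
  refine ⟨lt_of_le_of_ne inf_le_right fun h =>
    Aschbacher.not_le_subalgebraNormalizer (by simp) hK (by norm_num) (h ▸ inf_le_left),
    fun M hle hMS => ?_⟩
  rw [← hnorms] at hle ⊢
  exact Singer.overgroup K.val hK.finrank_eq h4 hle hMS

end CfsgLib.SLThree90
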